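import Groth.Agent.Lib.CechFilt13.Subq
import Mathlib.Algebra.Homology.DerivedCategory.SingleTriangle
import Mathlib.Algebra.Homology.DerivedCategory.TStructure

/-! The filtration on maps out of an object resolved by a sequence of short exact sequences. -/

set_option autoImplicit false
set_option backward.isDefEq.respectTransparency false
set_option backward.isDefEq.respectTransparency.types false

universe w v u

open CategoryTheory CategoryTheory.Limits DerivedCategory

namespace Groth.Agent.CechFilt13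

variable {A : Type u} [Category.{v} A] [Abelian A] [HasDerivedCategory.{w} A]
  {Z C : ℕ → A} {i : ∀ p, Z (p + 1) ⟶ C p} {π : ∀ p, C p ⟶ Z p} {w' : ∀ p, i p ≫ π p = 0}
  (hS : ∀ p, (ShortComplex.mk (i p) (π p) (w' p)).ShortExact) (K : DerivedCategory A)

local notation "SF" => DerivedCategory.singleFunctor A 0

/-- the connecting map on maps into shifts of `K` -/
noncomputable def theta (p : ℕ) (m m' : ℤ) (h : m + 1 = m') :
    ((SF).obj (Z (p + 1)) ⟶ (shiftFunctor _ m).obj K) →+ ((SF).obj (Z p) ⟶ (shiftFunctor _ m').obj K) :=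
  AddMonoidHom.mk' (fun x => (hS p).singleδ ≫ x⟦(1 : ℤ)⟧' ≫
      (shiftFunctorAdd' (DerivedCategory A) m 1 m' h).inv.app K) fun x y => by
    simp only [Functor.map_add, Preadditive.add_comp, Preadditive.comp_add]

theorem theta_comp_i (p : ℕ) (m m' : ℤ) (h : m + 1 = m') (z : (SF).obj (C p) ⟶ (shiftFunctor _ m).obj K) :
    theta hS K p m m' h ((SF).map (i p) ≫ z) = 0 := by
  change (hS p).singleδ ≫ ((SF).map (i p) ≫ z)⟦(1 : ℤ)⟧' ≫ _ = 0
  have h0 : (hS p).singleδ ≫ ((SF).map (i p))⟦(1 : ℤ)⟧' = 0 :=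
    Pretriangulated.comp_distTriang_mor_zero₃₁ _ (hS p).singleTriangle_distinguished
  rw [Functor.map_comp, Category.assoc, reassoc_of% h0, zero_comp]

theorem π_comp_theta (p : ℕ) (m m' : ℤ) (h : m + 1 = m') (x : (SF).obj (Z (p + 1)) ⟶ (shiftFunctor _ m).obj K) :
    (SF).map (π p) ≫ theta hS K p m m' h x = 0 := by
  change (SF).map (π p) ≫ (hS p).singleδ ≫ _ = 0
  have h0 : (SF).map (π p) ≫ (hS p).singleδ = 0 :=
    Pretriangulated.comp_distTriang_mor_zero₂₃ _ (hS p).singleTriangle_distinguished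
  rw [reassoc_of% h0, zero_comp]

theorem exists_theta_eq (p : ℕ) (m m' : ℤ) (h : m + 1 = m') (y : (SF).obj (Z p) ⟶ (shiftFunctor _ m').obj K)
    (hy : (SF).map (π p) ≫ y = 0) : ∃ x, theta hS K p m m' h x = y := by
  obtain ⟨g, hg⟩ := Pretriangulated.Triangle.yoneda_exact₃ _ (hS p).singleTriangle_distinguished y hy
  obtain ⟨x, hx⟩ := (shiftFunctor (DerivedCategory A) (1 : ℤ)).map_surjective
    (g ≫ (shiftFunctorAdd' (DerivedCategory A) m 1 m' h).hom.app K)
  refine ⟨x, ?_⟩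
  change (hS p).singleδ ≫ x⟦(1 : ℤ)⟧' ≫ _ = y
  rw [hx]
  change (hS p).singleδ ≫ (g ≫ (shiftFunctorAdd' (DerivedCategory A) m 1 m' h).hom.app K) ≫
    (shiftFunctorAdd' (DerivedCategory A) m 1 m' h).inv.app K = y
  rw [Category.assoc, Iso.hom_inv_id_app]
  exact (congrArg ((hS p).singleδ ≫ ·) (Category.comp_id g)).trans hg.symm

/-- iterated connecting maps -/
noncomputable def psi : ∀ (p : ℕ) (m n : ℤ), m + p = n →
    (((SF).obj (Z p) ⟶ (shiftFunctor _ m).obj K) →+ ((SF).obj (Z 0) ⟶ (shiftFunctor _ n).obj K))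
  | 0, m, n, h => Preadditive.rightComp _ (eqToHom (by
      have : m = n := by simpa using h
      rw [this]))
  | p + 1, m, n, h => (psi p (m + 1) n (by push_cast at h; omega)).comp (theta hS K p m (m + 1) rfl)

theorem psi_zero_apply (n : ℤ) (h : n + ((0 : ℕ) : ℤ) = n)
    (x : (SF).obj (Z 0) ⟶ (shiftFunctor _ n).obj K) : psi hS K 0 n n h x = x := by
  show x ≫ eqToHom _ = x
  rw [eqToHom_refl, Category.comp_id]

theorem psi_theta (p : ℕ) (m m' n : ℤ) (h : m + 1 = m') (h' : m' + p = n) (h'' : m + ((p + 1 : ℕ) : ℤ) = n)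
    (x : (SF).obj (Z (p + 1)) ⟶ (shiftFunctor _ m).obj K) :
    psi hS K p m' n h' (theta hS K p m m' h x) = psi hS K (p + 1) m n h'' x := by
  subst h
  rfl

variable (n : ℤ)

/-- the filtration -/
noncomputable def G (p : ℕ) : Submodule ℤ ((SF).obj (Z 0) ⟶ (shiftFunctor _ n).obj K) :=
  AddSubgroup.toIntSubmodule (psi hS K p (n - p) n (by omega)).range

theorem mem_G {p : ℕ} {m : ℤ} (h : m + p = n) (y : (SF).obj (Z 0) ⟶ (shiftFunctor _ n).obj K) :
    y ∈ G hS K n p ↔ ∃ x, psi hS K p m n h x = y := by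
  obtain rfl : m = n - p := by omega
  exact AddMonoidHom.mem_range

theorem antitone_G : Antitone (G hS K n) := by
  refine antitone_nat_of_succ_le fun p y hy => ?_
  obtain ⟨x, hx⟩ := (mem_G hS K n (m := n - p - 1) (by push_cast; omega) y).1 hy
  rw [← psi_theta hS K p _ (n - p) n (by omega) (by omega)] at hx
  exact (mem_G hS K n (by omega) y).2 ⟨_, hx⟩

theorem G_zero : G hS K n 0 = ⊤ :=
  eq_top_iff.2 fun y _ => (mem_G hS K n (m := n) (by simp) y).2 ⟨y, psi_zero_apply hS K n _ y⟩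

theorem mem_G_one (y : (SF).obj (Z 0) ⟶ (shiftFunctor _ n).obj K) :
    y ∈ G hS K n 1 ↔ (SF).map (π 0) ≫ y = 0 := by
  have h1 : (n - 1 : ℤ) + ((1 : ℕ) : ℤ) = n := by omega
  rw [mem_G hS K n h1]
  have key : ∀ x, psi hS K 1 (n - 1) n h1 x = theta hS K 0 (n - 1) n (by omega) x := fun x => by
    rw [← psi_theta hS K 0 (n - 1) n n (by omega) (by simp), psi_zero_apply]
  constructor
  · rintro ⟨x, rfl⟩
    rw [key, π_comp_theta]
  · intro hy
    obtain ⟨x, hx⟩ := exists_theta_eq hS K 0 (n - 1) n (by omega) y hy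
    exact ⟨x, (key x).trans hx⟩

theorem G_eq_bot (a : ℤ) [K.IsGE a] (N : ℕ) (hN : n - N < a) : G hS K n N = ⊥ := by
  refine (Submodule.eq_bot_iff _).2 fun y hy => ?_
  obtain ⟨x, rfl⟩ := (mem_G hS K n (m := n - N) (by omega) y).1 hy
  haveI : ((shiftFunctor (DerivedCategory A) (n - (N : ℤ))).obj K).IsGE (a - (n - N)) :=
    TStructure.t.isGE_shift K a (n - N) (a - (n - N)) (by omega)
  rw [show x = 0 from TStructure.t.zero x 0 (a - (n - N)) (by omega), map_zero]

/-- the graded pieces are subquotients of the homology of the complex of maps out of the resolution -/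
theorem isSubquotient_grDesc (p : ℕ) (m : ℤ) (hm : m + p = n)
    (M : CochainComplex AddCommGrpCat.{w} ℕ)
    (e : ∀ q, ((SF).obj (C q) ⟶ (shiftFunctor _ m).obj K) →+ M.X q) (he : ∀ q, Function.Bijective (e q))
    (hd : ∀ q x, M.d q (q + 1) (e q x) = e (q + 1) ((SF).map (π (q + 1) ≫ i q) ≫ x)) :
    HTor.IsSubquotient ℤ (HTor.grDesc (G hS K n) p) (M.homology p) := by
  let φ : ((SF).obj (Z p) ⟶ (shiftFunctor _ m).obj K) →+ M.X p :=
    (e p).comp (Preadditive.leftComp _ ((SF).map (π p)))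
  have hφ : ∀ v, M.d p (p + 1) (φ v) = 0 := fun v => by
    change M.d p (p + 1) (e p ((SF).map (π p) ≫ v)) = 0
    rw [hd, ← Category.assoc, ← Functor.map_comp, Category.assoc, w' p, comp_zero, Functor.map_zero,
      zero_comp, map_zero]
  let a₀ : ((SF).obj (Z p) ⟶ (shiftFunctor _ m).obj K) →+ ↥(G hS K n p) :=
    AddMonoidHom.mk' (fun x => ⟨psi hS K p m n hm x, (mem_G hS K n hm _).2 ⟨x, rfl⟩⟩)
      fun x y => Subtype.ext (map_add _ x y)
  refine isSubquotient_of_maps ((Submodule.mkQ _).comp a₀.toIntLinearMap) (clsMap M p φ hφ).toIntLinearMap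
    ((Submodule.mkQ_surjective _).comp fun y => ?_) fun v hv => ?_
  · obtain ⟨x, hx⟩ := (mem_G hS K n hm y.1).1 y.2
    exact ⟨x, Subtype.ext hx⟩
  suffices psi hS K p m n hm v ∈ G hS K n (p + 1) by
    exact LinearMap.mem_ker.2 ((Submodule.Quotient.mk_eq_zero _).2 this)
  rcases p with _ | q
  · obtain ⟨w₀, hw⟩ := exists_of_clsMap_eq_zero M 0 φ hφ (LinearMap.mem_ker.1 hv) CochainComplex.prev_nat_zero
    have h0 : φ v = 0 := by
      rw [← hw, M.shape _ _ (by simp [ComplexShape.up, CochainComplex.prev_nat_zero])]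
      rfl
    have hv0 : (SF).map (π 0) ≫ v = 0 := (he 0).1 (h0.trans (map_zero _).symm)
    obtain ⟨x, hx⟩ := exists_theta_eq hS K 0 (m - 1) m (by omega) v hv0
    exact (mem_G hS K n (m := m - 1) (by omega) _).2
      ⟨x, by rw [← hx]; exact (psi_theta hS K 0 (m - 1) m n (by omega) hm (by omega) x).symm⟩
  · obtain ⟨w₀, hw⟩ := exists_of_clsMap_eq_zero M (q + 1) φ hφ (LinearMap.mem_ker.1 hv)
      (CochainComplex.prev_nat_succ q)
    obtain ⟨z, rfl⟩ := (he q).2 w₀
    rw [hd] at hw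
    have hv0 : (SF).map (π (q + 1)) ≫ (v - (SF).map (i q) ≫ z) = 0 := by
      rw [Preadditive.comp_sub, ← Category.assoc, ← Functor.map_comp, sub_eq_zero]
      exact ((he (q + 1)).1 hw).symm
    obtain ⟨x, hx⟩ := exists_theta_eq hS K (q + 1) (m - 1) m (by omega) _ hv0
    have hz : psi hS K (q + 1) m n hm ((SF).map (i q) ≫ z) = 0 := by
      rw [← psi_theta hS K q m (m + 1) n rfl (by push_cast at hm; omega) hm, theta_comp_i, map_zero]
    refine (mem_G hS K n (m := m - 1) (by push_cast at hm ⊢; omega) _).2 ⟨x, ?_⟩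
    rw [← psi_theta hS K (q + 1) (m - 1) m n (by omega) hm, hx, map_sub, hz, sub_zero]

end Groth.Agent.CechFilt13
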