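import Groth.Agent.Lib.SiteCoh.CechFamily
import Groth.Agent.Lib.KInj.Derived
import Groth.Prelude.Def_CohCx

/-! Maps out of the free sheaves of the Čech resolution in the derived category. -/

set_option autoImplicit false
set_option backward.isDefEq.respectTransparency false
set_option backward.isDefEq.respectTransparency.types false

universe u

open CategoryTheory CategoryTheory.Functor CategoryTheory.Limits Opposite AlgebraicTopology Simplicial
open Groth.Agent.SiteCoh

namespace Groth.Agent.CechFilt13

variable {C : Type u} [SmallCategory C] [HasPullbacks C] {U : C} (J : GrothendieckTopology C)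
  (E : FormalCoproduct.{u} (Over U))

/-- inclusion of a summand, on presheaves of sets -/
def pinj (a : E.I) : yoneda.obj (E.obj a).left ⟶ (psh (C := C) (U := U)).obj E :=
  { app := fun V => ↾fun x => ⟨a, x⟩
    naturality := fun V W g => by ext x; rfl }

theorem pinj_map {E' : FormalCoproduct.{u} (Over U)} (f : E ⟶ E') (a : E.I) :
    pinj E a ≫ (psh (C := C) (U := U)).map f = yoneda.map (f.φ a).left ≫ pinj E' (f.f a) := by
  ext V x
  rfl

/-- the presheaf of a formal coproduct is a coproduct of representables -/
noncomputable def isColimitPinj : IsColimit (Cofan.mk ((psh (C := C) (U := U)).obj E) (pinj E)) :=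
  mkCofanColimit _
    (fun s => { app := fun V => ↾fun x => (s.inj x.1).app V x.2
                naturality := fun V W g => by
                  ext x
                  exact NatTrans.naturality_apply (s.inj x.1) g x.2 })
    (fun s a => by ext V x; rfl)
    (fun s m hm => by
      ext V x
      exact ConcreteCategory.congr_hom (NatTrans.congr_app (hm x.1) V) x.2)

/-- inclusion of a summand -/
noncomputable def inj (a : E.I) : CohCx.freeSheaf J (E.obj a).left ⟶ (frP J).obj ((psh (C := C) (U := U)).obj E) :=
  (frP J).map (pinj E a)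

/-- the free sheaf of a formal coproduct is a coproduct -/
noncomputable def isColimitInj :
    IsColimit (Cofan.mk ((frP J).obj ((psh (C := C) (U := U)).obj E)) (inj J E)) :=
  haveI : PreservesColimitsOfSize.{u, u} (frP J) := (frAdj J).leftAdjoint_preservesColimits
  isColimitCofanMkObjOfIsColimit (frP J) _ _ (isColimitPinj E)

theorem inj_map {E' : FormalCoproduct.{u} (Over U)} (f : E ⟶ E') (a : E.I) :
    inj J E a ≫ (frP J).map ((psh (C := C) (U := U)).map f) =
      CohCx.freeSheafMap J (f.φ a).left ≫ inj J E' (f.f a) := by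
  refine ((frP J).map_comp _ _).symm.trans ((congrArg (frP J).map (pinj_map E f a)).trans ?_)
  exact (frP J).map_comp _ _

variable {J} [HasDerivedCategory.{u} (Sheaf J AddCommGrpCat.{u})]

/-- the free sheaf of a formal coproduct is a coproduct in the derived category -/
noncomputable def isColimitInjD :
    IsColimit (Cofan.mk ((DerivedCategory.singleFunctor (Sheaf J AddCommGrpCat.{u}) 0).obj ((frP J).obj ((psh (C := C) (U := U)).obj E))) fun a => (DerivedCategory.singleFunctor (Sheaf J AddCommGrpCat.{u}) 0).map (inj J E a)) := by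
  let X : E.I → CochainComplex (Sheaf J AddCommGrpCat.{u}) ℤ := fun a =>
    ((CochainComplex.singleFunctors (Sheaf J AddCommGrpCat.{u})).functor 0).obj (CohCx.freeSheaf J (E.obj a).left)
  haveI : PreservesColimit (Discrete.functor X) DerivedCategory.Q :=
    preservesColimit_of_preserves_colimit_cocone (coproductIsCoproduct X)
      ((isColimitMapCoconeCofanMkEquiv _ _ _).symm (KInjLib.isColimitSigma X))
  exact isColimitCofanMkObjOfIsColimit DerivedCategory.Q _ _
    (haveI : PreservesColimitsOfShape (Discrete E.I)
        ((CochainComplex.singleFunctors (Sheaf J AddCommGrpCat.{u})).functor 0) :=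
      inferInstanceAs (PreservesColimitsOfShape _ (HomologicalComplex.single _ (ComplexShape.up ℤ) 0))
    isColimitCofanMkObjOfIsColimit ((CochainComplex.singleFunctors (Sheaf J AddCommGrpCat.{u})).functor 0) _ _
      (isColimitInj J E))

variable (W : DerivedCategory (Sheaf J AddCommGrpCat.{u}))

/-- the presheaf of maps into `W` -/
noncomputable abbrev pshW : Cᵒᵖ ⥤ AddCommGrpCat.{u} :=
  (yoneda ⋙ (Functor.whiskeringRight _ _ _).obj AddCommGrpCat.free.{u} ⋙ presheafToSheaf J AddCommGrpCat.{u} ⋙
      DerivedCategory.singleFunctor (Sheaf J AddCommGrpCat.{u}) 0).op ⋙ preadditiveYoneda.obj W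

/-- values on the summands -/
noncomputable def valD : ((DerivedCategory.singleFunctor (Sheaf J AddCommGrpCat.{u}) 0).obj ((frP J).obj ((psh (C := C) (U := U)).obj E)) ⟶ W) →+
    ((FormalCoproduct.evalOp.{u} (Over U) AddCommGrpCat.{u}).obj ((Over.forget U).op ⋙ pshW W)).obj (op E) :=
  (Pi.lift (f := fun a : E.I => ((Over.forget U).op ⋙ pshW W).obj (op (E.obj a)))
    (P := AddCommGrpCat.of ((DerivedCategory.singleFunctor (Sheaf J AddCommGrpCat.{u}) 0).obj ((frP J).obj ((psh (C := C) (U := U)).obj E)) ⟶ W))
    fun a => AddCommGrpCat.ofHom (Preadditive.leftComp W ((DerivedCategory.singleFunctor (Sheaf J AddCommGrpCat.{u}) 0).map (inj J E a)))).hom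

theorem π_valD (x : (DerivedCategory.singleFunctor (Sheaf J AddCommGrpCat.{u}) 0).obj ((frP J).obj ((psh (C := C) (U := U)).obj E)) ⟶ W) (a : E.I) :
    Pi.π (fun a : E.I => ((Over.forget U).op ⋙ pshW W).obj (op (E.obj a))) a (valD E W x) =
      (DerivedCategory.singleFunctor (Sheaf J AddCommGrpCat.{u}) 0).map (inj J E a) ≫ x :=
  ConcreteCategory.congr_hom (Pi.lift_π (f := fun a : E.I => ((Over.forget U).op ⋙ pshW W).obj (op (E.obj a)))
    (P := AddCommGrpCat.of ((DerivedCategory.singleFunctor (Sheaf J AddCommGrpCat.{u}) 0).obj ((frP J).obj ((psh (C := C) (U := U)).obj E)) ⟶ W))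
    (fun a => AddCommGrpCat.ofHom (Preadditive.leftComp W ((DerivedCategory.singleFunctor (Sheaf J AddCommGrpCat.{u}) 0).map (inj J E a)))) a) x

theorem bijective_valD : Function.Bijective (valD E W) := by
  constructor
  · intro x y h
    refine Cofan.IsColimit.hom_ext (isColimitInjD E) _ _ fun a => ?_
    exact (π_valD E W x a).symm.trans ((congrArg _ h).trans (π_valD E W y a))
  · intro t
    refine ⟨Cofan.IsColimit.desc (isColimitInjD E)
      fun a => Pi.π (fun a : E.I => ((Over.forget U).op ⋙ pshW W).obj (op (E.obj a))) a t, pi_ext fun a => ?_⟩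
    exact (π_valD E W _ a).trans (Cofan.IsColimit.fac (isColimitInjD E) _ a)

theorem valD_natural {E' : FormalCoproduct.{u} (Over U)} (f : E ⟶ E')
    (x : (DerivedCategory.singleFunctor (Sheaf J AddCommGrpCat.{u}) 0).obj ((frP J).obj ((psh (C := C) (U := U)).obj E')) ⟶ W) :
    valD E W ((DerivedCategory.singleFunctor (Sheaf J AddCommGrpCat.{u}) 0).map ((frP J).map ((psh (C := C) (U := U)).map f)) ≫ x) =
      ((FormalCoproduct.evalOp.{u} (Over U) AddCommGrpCat.{u}).obj ((Over.forget U).op ⋙ pshW W)).map f.op
        (valD E' W x) := by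
  refine pi_ext fun a => ?_
  rw [π_valD]
  dsimp [FormalCoproduct.evalOp]
  rw [← ConcreteCategory.comp_apply, Pi.lift_π, ConcreteCategory.comp_apply]
  erw [π_valD]
  refine (Category.assoc _ _ _).symm.trans ((congrArg (· ≫ x) ((Functor.map_comp _ _ _).symm.trans
    ((congrArg _ (inj_map J E f a)).trans (Functor.map_comp _ _ _)))).trans (Category.assoc _ _ _))

variable {ι : Type u} (Y : ι → Over U)

theorem valD_d (q : ℕ) (x : (DerivedCategory.singleFunctor (Sheaf J AddCommGrpCat.{u}) 0).obj ((famCx Y J).X q) ⟶ W) :
    ((cechComplexFunctor Y).obj ((Over.forget U).op ⋙ pshW W)).d q (q + 1) (valD _ W x) =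
      valD ((famObj Y).power (ToType (⦋q + 1⦌ : SimplexCategory))) W ((DerivedCategory.singleFunctor (Sheaf J AddCommGrpCat.{u}) 0).map ((famCx Y J).d (q + 1) q) ≫ x) := by
  rw [alternatingFaceMapComplex_obj_d]
  simp only [AlternatingFaceMapComplex.objD, Functor.map_sum, Functor.map_zsmul, Preadditive.sum_comp,
    Preadditive.zsmul_comp]
  erw [_root_.map_sum]
  simp only [cechComplexFunctor, FormalCoproduct.cochainComplexFunctor, Functor.comp_obj,
    alternatingCofaceMapComplex, AlternatingCofaceMapComplex.obj, CochainComplex.of_d,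
    AlternatingCofaceMapComplex.objD]
  erw [sum_apply]
  refine Finset.sum_congr rfl fun i _ => ?_
  erw [_root_.map_zsmul]
  exact congrArg (fun z => (-1 : ℤ) ^ (i : ℕ) • z)
    (valD_natural _ W ((famObj Y).cech.map (SimplexCategory.δ i).op) x).symm

end Groth.Agent.CechFilt13
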