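import Groth.Agent.Lib.SiteCoh.Resolution
import Mathlib.Algebra.Homology.ShortComplex.Abelian

/-! Short exact pieces of a resolution. -/

set_option autoImplicit false
set_option backward.isDefEq.respectTransparency false

universe v u

open CategoryTheory CategoryTheory.Limits

namespace Groth.Agent.CechFilt13

variable {A : Type u} [Category.{v} A] [Abelian A] {C : ChainComplex A ℕ}

/-- the image in degree `p` with its presentation -/
structure Stage (C : ChainComplex A ℕ) (p : ℕ) where
  Z : A
  π : C.X p ⟶ Z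
  epi : Epi π
  w : C.d (p + 1) p ≫ π = 0
  exact : (ShortComplex.mk (C.d (p + 1) p) π w).Exact

/-- the next stage: the kernel -/
noncomputable def Stage.next {p : ℕ} (s : Stage C p) (h : (C.sc' (p + 2) (p + 1) p).Exact) : Stage C (p + 1) where
  Z := kernel s.π
  π := kernel.lift s.π (C.d (p + 1) p) s.w
  epi := s.exact.epi_kernelLift
  w := by rw [← cancel_mono (kernel.ι s.π), Category.assoc, kernel.lift_ι, zero_comp, C.d_comp_d]
  exact := (ShortComplex.exact_iff_of_epi_of_isIso_of_mono
    (S₁ := ShortComplex.mk (C.d (p + 2) (p + 1)) (kernel.lift s.π (C.d (p + 1) p) s.w) (by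
      rw [← cancel_mono (kernel.ι s.π), Category.assoc, kernel.lift_ι, zero_comp, C.d_comp_d]))
    (S₂ := C.sc' (p + 2) (p + 1) p)
    { τ₁ := 𝟙 _, τ₂ := 𝟙 _, τ₃ := kernel.ι s.π,
      comm₁₂ := by simp, comm₂₃ := by simp }).2 h

variable {P : A} (ε : C ⟶ (ChainComplex.single₀ A).obj P) [QuasiIso ε] {P' : A} (e : P ≅ P')

/-- the first stage -/
noncomputable def stage₀ : Stage C 0 where
  Z := P'
  π := SiteCoh.aug ε ≫ e.hom
  epi := haveI := SiteCoh.epi_aug ε; inferInstance
  w := by rw [← Category.assoc, SiteCoh.d_comp_aug, zero_comp]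
  exact := by
    haveI := SiteCoh.epi_aug ε
    refine ShortComplex.exact_of_g_is_cokernel _ (CokernelCofork.IsColimit.ofπ _ _
      (fun g hg => e.inv ≫ (SiteCoh.exists_desc_aug ε g hg).choose)
      (fun g hg => ?_) (fun g hg m hm => ?_))
    · exact (Category.assoc _ _ _).trans ((congrArg (SiteCoh.aug ε ≫ ·) (Iso.hom_inv_id_assoc _ _)).trans
        (SiteCoh.exists_desc_aug ε g hg).choose_spec)
    · refine (cancel_epi (SiteCoh.aug ε ≫ e.hom)).1 (hm.trans ?_)
      exact ((Category.assoc _ _ _).trans ((congrArg (SiteCoh.aug ε ≫ ·) (Iso.hom_inv_id_assoc _ _)).trans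
        (SiteCoh.exists_desc_aug ε g hg).choose_spec)).symm

/-- all stages -/
noncomputable def stage : ∀ p, Stage C p
  | 0 => stage₀ ε e
  | p + 1 => (stage p).next (SiteCoh.exact_of_resolution ε p)

/-- the inclusions -/
noncomputable def stageι (p : ℕ) : (stage ε e (p + 1)).Z ⟶ C.X p := kernel.ι (stage ε e p).π

theorem stageι_π (p : ℕ) : stageι ε e p ≫ (stage ε e p).π = 0 := kernel.condition _

theorem stage_π_ι (p : ℕ) : (stage ε e (p + 1)).π ≫ stageι ε e p = C.d (p + 1) p := kernel.lift_ι _ _ _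

theorem stage_shortExact (p : ℕ) :
    (ShortComplex.mk (stageι ε e p) (stage ε e p).π (stageι_π ε e p)).ShortExact :=
  haveI : Mono (stageι ε e p) := inferInstanceAs (Mono (kernel.ι _))
  haveI := (stage ε e p).epi
  { exact := ShortComplex.exact_of_f_is_kernel _ (kernelIsKernel _) }

end Groth.Agent.CechFilt13
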