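import Groth.Agent.Lib.CechFilt13.Abstract
import Groth.Agent.Lib.CechFilt13.Stages
import Groth.Agent.Lib.CechFilt13.Free

/-! The Čech filtration on hypercohomology over a site. -/

set_option autoImplicit false
set_option backward.isDefEq.respectTransparency false
set_option backward.isDefEq.respectTransparency.types false

universe u

open CategoryTheory CategoryTheory.Functor CategoryTheory.Limits Opposite AlgebraicTopology Simplicial
open Groth.Agent.SiteCoh

namespace Groth.Agent.CechFilt13

variable {C : Type u} [SmallCategory C] [HasPullbacks C] {U : C} {J : GrothendieckTopology C}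
  [HasDerivedCategory.{u} (Sheaf J AddCommGrpCat.{u})] {ι : Type u} (Y : ι → Over U)

theorem exists_filtration (hY : Sieve.ofArrows (fun i => (Y i).left) (fun i => (Y i).hom) ∈ J U)
    (K : DerivedCategory (Sheaf J AddCommGrpCat.{u})) (a : ℤ) [K.IsGE a] (n : ℤ) :
    ∃ (N : ℕ) (F : ℕ → Submodule ℤ (CohCx.HDU K n U)),
      Antitone F ∧ F 0 = ⊤ ∧ F N = ⊥ ∧
      (∀ y, y ∈ F 1 ↔ ∀ b : ((famObj Y).power (ToType (⦋0⦌ : SimplexCategory))).I,
        CohCx.HDUres K n (((famObj Y).power (ToType (⦋0⦌ : SimplexCategory))).obj b).hom y = 0) ∧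
      ∀ p : ℕ, HTor.IsSubquotient ℤ (HTor.grDesc F p) (CohCx.cechH (CohCx.HDUPresheaf K (n - p)) Y p) := by
  haveI := quasiIso_fam Y J
  haveI := isIso_famImg Y J hY
  let ε := AlternatingFaceMapComplex.ε.app (famFr Y J)
  let e : (famFr Y J).right ≅ CohCx.freeSheaf J U := asIso ((frP J).map (Subfunctor.range (famBase Y)).ι)
  let Zs : ℕ → Sheaf J AddCommGrpCat.{u} := fun p => (stage ε e p).Z
  let Cs : ℕ → Sheaf J AddCommGrpCat.{u} := fun p => (famCx Y J).X p
  let is : ∀ p, Zs (p + 1) ⟶ Cs p := stageι ε e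
  let ps : ∀ p, Cs p ⟶ Zs p := fun p => (stage ε e p).π
  have ws : ∀ p, is p ≫ ps p = 0 := stageι_π ε e
  have hS : ∀ p, (ShortComplex.mk (is p) (ps p) (ws p)).ShortExact :=
    stage_shortExact ε e
  let F : ℕ → Submodule ℤ (CohCx.HDU K n U) := G (Z := Zs) (C := Cs) (i := is) (π := ps) (w' := ws) hS K n
  refine ⟨(n - a).toNat + 1, F, antitone_G hS K n, G_zero hS K n,
    G_eq_bot hS K n a ((n - a).toNat + 1) (by omega), fun y => (mem_G_one hS K n y).trans ?_, fun p => ?_⟩
  · have key : ∀ b : ((famObj Y).power (ToType (⦋0⦌ : SimplexCategory))).I,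
        inj J ((famObj Y).power (ToType (⦋0⦌ : SimplexCategory))) b ≫ (stage ε e 0).π =
          CohCx.freeSheafMap J (((famObj Y).power (ToType (⦋0⦌ : SimplexCategory))).obj b).hom := fun b => by
      show _ ≫ (ε.f 0) ≫ (frP J).map (Subfunctor.range (famBase Y)).ι = _
      rw [show ε.f 0 = (famFr Y J).hom.app (op ⦋0⦌) from AlternatingFaceMapComplex.ε_app_f_zero _]
      refine (congrArg (inj J _ b ≫ ·) ((frP J).map_comp _ _).symm).trans (((frP J).map_comp _ _).symm.trans ?_)
      refine congrArg (frP J).map ?_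
      ext V x
      show (x ≫ (((famObj Y).powerπ (α := ToType (⦋0⦌ : SimplexCategory)) 0).φ b).left) ≫ _ = x ≫ _
      rw [Category.assoc]
      exact congrArg (x ≫ ·) (Over.w _)
    constructor
    · intro hy b
      show (DerivedCategory.singleFunctor _ 0).map (CohCx.freeSheafMap J _) ≫ y = 0
      rw [← key b]
      refine (congrArg (· ≫ y) (Functor.map_comp _ _ _)).trans ((Category.assoc _ _ _).trans ?_)
      exact (congrArg (_ ≫ ·) hy).trans comp_zero
    · intro h
      refine Cofan.IsColimit.hom_ext (isColimitInjD ((famObj Y).power (ToType (⦋0⦌ : SimplexCategory)))) _ _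
        fun b => ?_
      refine ((Category.assoc _ _ _).symm.trans (congrArg (· ≫ y)
        ((Functor.map_comp _ _ _).symm.trans (congrArg _ (key b))))).trans ((h b).trans comp_zero.symm)
  · refine isSubquotient_grDesc hS K n p (n - p) (by omega)
      ((cechComplexFunctor Y).obj ((Over.forget U).op ⋙ CohCx.HDUPresheaf K (n - p)))
      (fun q => valD ((famObj Y).power (ToType (⦋q⦌ : SimplexCategory))) _)
      (fun q => bijective_valD _ _) fun q x => ?_
    rw [stage_π_ι ε e q]
    exact valD_d _ Y q x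

end Groth.Agent.CechFilt13
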