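import Groth.Prelude.Def_HTor
import Mathlib.Algebra.Homology.ShortComplex.Ab
import Mathlib.Algebra.Homology.ShortComplex.HomologicalComplex

/-! Subquotients from a pair of maps out of a common group, and classes of cocycles. -/

set_option autoImplicit false

universe u v

open CategoryTheory CategoryTheory.Limits

namespace Groth.Agent.CechFilt13

theorem isSubquotient_of_maps {R : Type v} [CommRing R] {V Q H : Type u} [AddCommGroup V] [Module R V]
    [AddCommGroup Q] [Module R Q] [AddCommGroup H] [Module R H] (a : V →ₗ[R] Q) (b : V →ₗ[R] H)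
    (ha : Function.Surjective a) (h : LinearMap.ker b ≤ LinearMap.ker a) :
    HTor.IsSubquotient R Q H := by
  refine ⟨(LinearMap.ker a).map b, LinearMap.range b, LinearMap.map_le_range, ⟨?_⟩⟩
  let c : V →ₗ[R] (↥(LinearMap.range b) ⧸
      Submodule.comap (LinearMap.range b).subtype ((LinearMap.ker a).map b)) :=
    (Submodule.mkQ _).comp b.rangeRestrict
  have hc : Function.Surjective c := (Submodule.mkQ_surjective _).comp b.surjective_rangeRestrict
  have hk : LinearMap.ker c = LinearMap.ker a := by
    ext v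
    simp only [c, LinearMap.mem_ker, LinearMap.comp_apply, Submodule.mkQ_apply, Submodule.Quotient.mk_eq_zero,
      Submodule.mem_comap, Submodule.subtype_apply, LinearMap.codRestrict_apply, Submodule.mem_map]
    constructor
    · rintro ⟨w, hw, e⟩
      have h1 : v - w ∈ LinearMap.ker a := h (by
        rw [LinearMap.mem_ker, map_sub, sub_eq_zero]
        exact e.symm)
      rw [LinearMap.mem_ker, map_sub, hw, sub_zero] at h1
      exact h1
    · intro hv
      exact ⟨v, hv, rfl⟩
  exact (LinearMap.quotKerEquivOfSurjective a ha).symm ≪≫ₗ Submodule.quotEquivOfEq _ _ hk.symm ≪≫ₗ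
    LinearMap.quotKerEquivOfSurjective c hc

variable (M : CochainComplex AddCommGrpCat.{u} ℕ) (p : ℕ) {V : Type u} [AddCommGroup V] (φ : V →+ M.X p)
  (hφ : ∀ v, M.d p (p + 1) (φ v) = 0)

/-- the class of a family of cocycles -/
noncomputable def clsMap : V →+ M.homology p :=
  (M.liftCycles (A := AddCommGrpCat.of V) (AddCommGrpCat.ofHom φ) (p + 1) (CochainComplex.next ℕ p) (by
    ext v
    exact hφ v) ≫ M.homologyπ p).hom

theorem exists_of_clsMap_eq_zero {v : V} (hv : clsMap M p φ hφ v = 0) {j : ℕ}
    (hj : (ComplexShape.up ℕ).prev p = j) : ∃ w : M.X j, M.d j p w = φ v := by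
  subst hj
  let S := ShortComplex.mk (M.toCycles ((ComplexShape.up ℕ).prev p) p) (M.homologyπ p) (M.toCycles_comp_homologyπ _ _)
  have hS : S.Exact := S.exact_of_g_is_cokernel (M.homologyIsCokernel _ p rfl)
  obtain ⟨w, hw⟩ := (ShortComplex.ab_exact_iff _).1 hS _ hv
  refine ⟨w, ?_⟩
  have hk : AddCommGrpCat.ofHom φ ≫ M.d p (p + 1) = 0 := AddCommGrpCat.ext fun v => hφ v
  have e := congrArg (M.iCycles p) hw
  have e1 := ConcreteCategory.congr_hom (M.toCycles_i ((ComplexShape.up ℕ).prev p) p) w
  have e2 := ConcreteCategory.congr_hom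
    (M.liftCycles_i (A := AddCommGrpCat.of V) (AddCommGrpCat.ofHom φ) (p + 1) (CochainComplex.next ℕ p) hk) v
  exact (e1.symm.trans e).trans e2

end Groth.Agent.CechFilt13
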