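import Groth.Agent.Lib.CechFilt13.Main
import Groth.Prelude.Def_CohB1
import Groth.Prelude.Def_CohTop
import Mathlib.CategoryTheory.Limits.Lattice

/-! Opens of a space as a site: families over the top. -/

set_option autoImplicit false
set_option backward.isDefEq.respectTransparency false
set_option backward.isDefEq.respectTransparency.types false

universe u

open CategoryTheory CategoryTheory.Limits Opposite TopologicalSpace AlgebraicTopology Simplicial
open Groth.Agent.SiteCoh

namespace Groth.Agent.CechFilt13

variable {X : TopCat.{u}} {ι : Type u} (U : ι → Opens X)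

/-- the opens as a family over the top -/
abbrev topFam (i : ι) : Over (⊤ : Opens X) := Over.mk (homOfLE le_top : U i ⟶ (⊤ : Opens X))

theorem topFam_covering (hcov : iSup U = ⊤) :
    Sieve.ofArrows (fun i => (topFam U i).left) (fun i => (topFam U i).hom) ∈
      Opens.grothendieckTopology X (⊤ : Opens X) := by
  intro x hx
  rw [← hcov, Opens.mem_iSup] at hx
  obtain ⟨i, hi⟩ := hx
  exact ⟨U i, (topFam U i).hom, Sieve.ofArrows_mk _ _ i, hi⟩

theorem power_left_eq (α : Type) [Fintype α] (b : α → ι) :
    (∏ᶜ fun k => topFam U (b k)).left = (∏ᶜ fun k => U (b k) : Opens X) := by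
  refine le_antisymm (leOfHom (Pi.lift fun k => (Pi.π (fun k => topFam U (b k)) k).left)) ?_
  exact leOfHom (Pi.lift (P := Over.mk (homOfLE le_top : (∏ᶜ fun k => U (b k) : Opens X) ⟶ ⊤))
    fun k => (Over.homMk (Pi.π (fun k => U (b k)) k) : _ ⟶ topFam U (b k))).left

/-- the Čech complexes of a family of opens and of the family over the top agree -/
noncomputable def cechComplexIso (P : TopCat.Presheaf AddCommGrpCat.{u} X) :
    (cechComplexFunctor (topFam U)).obj ((Over.forget (⊤ : Opens X)).op ⋙ P) ≅
      (cechComplexFunctor U).obj P :=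
  (AlgebraicTopology.alternatingCofaceMapComplex AddCommGrpCat.{u}).mapIso
    (NatIso.ofComponents
      (fun n => Pi.mapIso fun b => P.mapIso (eqToIso (power_left_eq U (ToType n) b).symm).op)
      (fun {n m} f => by
        refine Pi.hom_ext _ _ fun b => ?_
        dsimp [FormalCoproduct.evalOp, FormalCoproduct.cech, Functor.rightOp]
        simp only [Category.assoc, limMap_π, Pi.lift_π, Discrete.natIso_hom_app]
        erw [limMap_π, Pi.lift_π_assoc, Pi.lift_π, limMap_π_assoc]
        simp only [Discrete.natIso_hom_app, Category.assoc]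
        congr 1
        dsimp
        rw [← P.map_comp, ← P.map_comp]
        congr 1))

/-- Čech cohomology of the family over the top -/
noncomputable def cechHIso (P : TopCat.Presheaf AddCommGrpCat.{u} X) (p : ℕ) :
    CohCx.cechH P (topFam U) p ≅ CohB1.cechHTop U P p :=
  (HomologicalComplex.homologyFunctor AddCommGrpCat.{u} (ComplexShape.up ℕ) p).mapIso (cechComplexIso U P)

end Groth.Agent.CechFilt13
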